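import Mathlib
import Groth.Prelude.Def_GrSyz

/-! Homogeneous vectors, homogeneous matrices and components, for free modules with degree-labelled bases. -/

set_option autoImplicit false
universe u v w

open DirectSum Matrix

namespace Groth.Agent.GrSyzLib

variable {R : Type u} [CommRing R] {σ' : Type u} [SetLike σ' R] [AddSubgroupClass σ' R]
  (𝒜 : ℤ → σ') [GradedRing 𝒜]

/-- The component of degree `i` in the ring. -/
noncomputable def pr (i : ℤ) : R →+ R := GradedRing.proj 𝒜 i

theorem pr_mem (i : ℤ) (r : R) : pr 𝒜 i r ∈ 𝒜 i := (decompose 𝒜 r i).2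

theorem pr_mul_right {e : ℤ} {x : R} (hx : x ∈ 𝒜 e) (r : R) (j : ℤ) :
    pr 𝒜 j (r * x) = pr 𝒜 (j - e) r * x := by
  have h := DirectSum.coe_decompose_mul_add_of_right_mem 𝒜 (a := r) (i := j - e) hx
  rw [sub_add_cancel] at h
  exact h

theorem pr_mul_left {e : ℤ} {x : R} (hx : x ∈ 𝒜 e) (r : R) (j : ℤ) :
    pr 𝒜 j (x * r) = x * pr 𝒜 (j - e) r := by
  rw [mul_comm, pr_mul_right 𝒜 hx, mul_comm]

theorem pr_of_mem {e : ℤ} {x : R} (hx : x ∈ 𝒜 e) (j : ℤ) : pr 𝒜 j x = if j = e then x else 0 := by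
  split_ifs with h
  · subst h; exact DirectSum.decompose_of_mem_same 𝒜 hx
  · exact DirectSum.decompose_of_mem_ne 𝒜 hx (Ne.symm h)

variable {ι : Type v} {κ : Type w}

/-- A homogeneous vector. -/
def HomVec (deg : ι → ℤ) (j : ℤ) (v : ι → R) : Prop := ∀ a, v a ∈ 𝒜 (j - deg a)

/-- A degree-preserving matrix. -/
def HomMat (degT : ι → ℤ) (degS : κ → ℤ) (D : Matrix ι κ R) : Prop :=
  ∀ a b, D a b ∈ 𝒜 (degS b - degT a)

/-- The component of a vector. -/
noncomputable def compV (deg : ι → ℤ) (j : ℤ) : (ι → R) →+ (ι → R) where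
  toFun v a := pr 𝒜 (j - deg a) (v a)
  map_zero' := by funext a; simp
  map_add' v w := by funext a; simp

theorem compV_apply (deg : ι → ℤ) (j : ℤ) (v : ι → R) (a : ι) :
    compV 𝒜 deg j v a = pr 𝒜 (j - deg a) (v a) := rfl

theorem compV_mem (deg : ι → ℤ) (j : ℤ) (v : ι → R) : HomVec 𝒜 deg j (compV 𝒜 deg j v) :=
  fun _ => pr_mem 𝒜 _ _

theorem compV_of_hom {deg : ι → ℤ} {e : ℤ} {v : ι → R} (hv : HomVec 𝒜 deg e v) (j : ℤ) :
    compV 𝒜 deg j v = if j = e then v else 0 := by
  funext a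
  rw [compV_apply, pr_of_mem 𝒜 (hv a)]
  by_cases h : j = e
  · rw [if_pos (by omega), if_pos h]
  · rw [if_neg (by omega), if_neg h, Pi.zero_apply]

theorem exists_sum_compV [Fintype ι] (deg : ι → ℤ) (v : ι → R) :
    ∃ s : Finset ℤ, ∑ j ∈ s, compV 𝒜 deg j v = v := by
  classical
  refine ⟨Finset.univ.biUnion fun a => ((decompose 𝒜 (v a)).support).image (· + deg a), ?_⟩
  funext a
  rw [Finset.sum_apply]
  simp only [compV_apply]
  conv_rhs => rw [← DirectSum.sum_support_decompose 𝒜 (v a)]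
  rw [← Finset.sum_subset (s₁ := ((decompose 𝒜 (v a)).support).image (· + deg a))]
  · rw [Finset.sum_image (fun x _ y _ h => add_right_cancel h)]
    exact Finset.sum_congr rfl fun i _ => by rw [add_sub_cancel_right]; rfl
  · intro x hx
    exact Finset.mem_biUnion.2 ⟨a, Finset.mem_univ _, hx⟩
  · intro x _ hx
    have : (x - deg a) ∉ (decompose 𝒜 (v a)).support := fun h =>
      hx (Finset.mem_image.2 ⟨_, h, sub_add_cancel _ _⟩)
    rw [DFinsupp.notMem_support_iff] at this
    show ((decompose 𝒜 (v a) (x - deg a) : 𝒜 (x - deg a)) : R) = 0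
    rw [this]; rfl

theorem compV_mulVec [Fintype κ] {degT : ι → ℤ} {degS : κ → ℤ} {D : Matrix ι κ R}
    (hD : HomMat 𝒜 degT degS D) (j : ℤ) (v : κ → R) :
    compV 𝒜 degT j (D.mulVec v) = D.mulVec (compV 𝒜 degS j v) := by
  funext a
  simp only [compV_apply, Matrix.mulVec, dotProduct, map_sum]
  refine Finset.sum_congr rfl fun b _ => ?_
  rw [pr_mul_left 𝒜 (hD a b), sub_sub_sub_cancel_right]

theorem homMat_mul [Fintype κ] {μ : Type*} {degT : ι → ℤ} {degS : κ → ℤ} {degU : μ → ℤ}
    {D : Matrix ι κ R} {E : Matrix κ μ R} (hD : HomMat 𝒜 degT degS D) (hE : HomMat 𝒜 degS degU E) :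
    HomMat 𝒜 degT degU (D * E) := fun a c => by
  rw [Matrix.mul_apply]
  refine sum_mem fun b _ => ?_
  have h := SetLike.mul_mem_graded (hD a b) (hE b c)
  rwa [show degS b - degT a + (degU c - degS b) = degU c - degT a by ring] at h

theorem homMat_one [Fintype ι] [DecidableEq ι] (deg : ι → ℤ) : HomMat 𝒜 deg deg (1 : Matrix ι ι R) :=
  fun a b => by
    rw [Matrix.one_apply]
    split_ifs with h
    · subst h; rw [sub_self]; exact SetLike.one_mem_graded 𝒜
    · exact zero_mem _

theorem homMat_sub {degT : ι → ℤ} {degS : κ → ℤ} {D E : Matrix ι κ R} (hD : HomMat 𝒜 degT degS D)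
    (hE : HomMat 𝒜 degT degS E) : HomMat 𝒜 degT degS (D - E) := fun a b => sub_mem (hD a b) (hE a b)

/-- Homogeneous lifting through a homogeneous matrix. -/
theorem exists_lift [Fintype κ] {μ : Type*} {degT : ι → ℤ} {degS : κ → ℤ} {degU : μ → ℤ}
    {D : Matrix ι κ R} {A : Matrix ι μ R} (hD : HomMat 𝒜 degT degS D) (hA : HomMat 𝒜 degT degU A)
    (h : ∀ c, (fun a => A a c) ∈ LinearMap.range D.mulVecLin) :
    ∃ H : Matrix κ μ R, HomMat 𝒜 degS degU H ∧ D * H = A := by
  choose w hw using h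
  refine ⟨Matrix.of fun b c => compV 𝒜 degS (degU c) (w c) b, fun b c => compV_mem 𝒜 degS (degU c) (w c) b, ?_⟩
  ext a c
  have h1 := congrFun (compV_mulVec 𝒜 hD (degU c) (w c)) a
  rw [show D.mulVec (w c) = fun a => A a c from hw c,
    compV_of_hom 𝒜 (show HomVec 𝒜 degT (degU c) fun a => A a c from fun a => hA a c), if_pos rfl] at h1
  exact h1.symm

section Mod

variable {M : Type u} [AddCommGroup M] [Module R M] {τ : Type u} [SetLike τ M] [AddSubgroupClass τ M]
  (ℳ : ℤ → τ) [DirectSum.Decomposition ℳ] [SetLike.GradedSMul 𝒜 ℳ]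

/-- The component of degree `j` in the module. -/
noncomputable def compM (j : ℤ) : M →+ M :=
  AddMonoidHom.mk' (fun x => (decompose ℳ x j : M)) fun x y => by simp

theorem compM_mem (j : ℤ) (x : M) : compM ℳ j x ∈ ℳ j := (decompose ℳ x j).2

theorem compM_of_mem {e : ℤ} {x : M} (hx : x ∈ ℳ e) (j : ℤ) : compM ℳ j x = if j = e then x else 0 := by
  split_ifs with h
  · subst h; exact DirectSum.decompose_of_mem_same ℳ hx
  · exact DirectSum.decompose_of_mem_ne ℳ hx (Ne.symm h)

theorem compM_smul {e : ℤ} {x : M} (hx : x ∈ ℳ e) (r : R) (j : ℤ) :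
    compM ℳ j (r • x) = pr 𝒜 (j - e) r • x := by
  classical
  induction r using DirectSum.Decomposition.inductionOn 𝒜 with
  | zero => simp
  | @homogeneous i m =>
    rw [compM_of_mem ℳ (SetLike.GradedSMul.smul_mem m.2 hx), pr_of_mem 𝒜 m.2]
    rw [vadd_eq_add]
    by_cases h : j = i + e
    · rw [if_pos h, if_pos (by omega)]
    · rw [if_neg h, if_neg (by omega), zero_smul]
  | add a b ha hb => rw [add_smul, map_add, ha, hb, map_add, add_smul]

theorem compM_lincomb [Fintype ι] {deg : ι → ℤ} {x : ι → M} (hx : ∀ b, x b ∈ ℳ (deg b)) (v : ι → R) (j : ℤ) :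
    compM ℳ j (Fintype.linearCombination R x v) = Fintype.linearCombination R x (compV 𝒜 deg j v) := by
  rw [Fintype.linearCombination_apply, map_sum, Fintype.linearCombination_apply]
  exact Finset.sum_congr rfl fun b _ => compM_smul 𝒜 ℳ (hx b) _ _

theorem sum_compM (x : M) : ∃ s : Finset ℤ, ∑ j ∈ s, compM ℳ j x = x := by
  classical
  exact ⟨(decompose ℳ x).support, DirectSum.sum_support_decompose ℳ x⟩

/-- Homogeneous lifting through an augmentation. -/
theorem exists_lift_aug [Fintype κ] {μ : Type*} {deg : κ → ℤ} {degU : μ → ℤ} {x : κ → M}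
    (hx : ∀ b, x b ∈ ℳ (deg b)) (hsurj : Function.Surjective (Fintype.linearCombination R x))
    {y : μ → M} (hy : ∀ c, y c ∈ ℳ (degU c)) :
    ∃ H : Matrix κ μ R, HomMat 𝒜 deg degU H ∧ ∀ c, Fintype.linearCombination R x (fun b => H b c) = y c := by
  choose w hw using fun c => hsurj (y c)
  refine ⟨Matrix.of fun b c => compV 𝒜 deg (degU c) (w c) b, fun b c => compV_mem 𝒜 deg (degU c) (w c) b,
    fun c => ?_⟩
  show Fintype.linearCombination R x (compV 𝒜 deg (degU c) (w c)) = y c
  rw [← compM_lincomb 𝒜 ℳ hx, hw, compM_of_mem ℳ (hy c), if_pos rfl]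

theorem ker_lincomb_closed [Fintype ι] {deg : ι → ℤ} {x : ι → M} (hx : ∀ b, x b ∈ ℳ (deg b)) (j : ℤ)
    (v : ι → R) (hv : v ∈ LinearMap.ker (Fintype.linearCombination R x)) :
    compV 𝒜 deg j v ∈ LinearMap.ker (Fintype.linearCombination R x) := by
  rw [LinearMap.mem_ker] at hv ⊢
  rw [← compM_lincomb 𝒜 ℳ hx, hv, map_zero]

end Mod

theorem ker_mulVec_closed [Fintype κ] {degT : ι → ℤ} {degS : κ → ℤ} {D : Matrix ι κ R}
    (hD : HomMat 𝒜 degT degS D) (j : ℤ) (v : κ → R) (hv : v ∈ LinearMap.ker D.mulVecLin) :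
    compV 𝒜 degS j v ∈ LinearMap.ker D.mulVecLin := by
  rw [LinearMap.mem_ker, Matrix.mulVecLin_apply] at hv ⊢
  rw [← compV_mulVec 𝒜 hD, hv, map_zero]

section Irred

variable {N : Type*} [AddCommGroup N] [Module R N]

/-- Membership in the span of the other members is a relation with coefficient one. -/
theorem mem_span_others_iff [Fintype ι] (x : ι → N) (b : ι) :
    x b ∈ Submodule.span R (x '' {b' | b' ≠ b}) ↔
      ∃ v ∈ LinearMap.ker (Fintype.linearCombination R x), v b = 1 := by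
  classical
  rw [Finsupp.mem_span_image_iff_linearCombination]
  constructor
  · rintro ⟨l, hl, he⟩
    refine ⟨Pi.single b 1 - ⇑l, ?_, ?_⟩
    · rw [LinearMap.mem_ker, map_sub, Fintype.linearCombination_apply_single, one_smul,
        ← Finsupp.linearCombination_eq_fintype_linearCombination_apply R]
      rw [← he]
      simp
    · rw [Pi.sub_apply, Pi.single_eq_same]
      have : l b = 0 := by
        by_contra h
        exact (Finsupp.mem_supported R l).1 hl (Finsupp.mem_support_iff.2 h) rfl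
      rw [this, sub_zero]
  · rintro ⟨v, hv, hb⟩
    refine ⟨(Finsupp.linearEquivFunOnFinite R R ι).symm (Pi.single b 1 - v), ?_, ?_⟩
    · rw [Finsupp.mem_supported]
      intro c hc
      rw [Finset.mem_coe, Finsupp.mem_support_iff] at hc
      intro (hcb : c = b)
      apply hc
      subst hcb
      simp [hb]
    · rw [← Finsupp.linearCombination_eq_fintype_linearCombination R] at hv
      replace hv : Finsupp.linearCombination R x ((Finsupp.linearEquivFunOnFinite R R ι).symm v) = 0 := hv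
      rw [map_sub, map_sub, show (Finsupp.linearEquivFunOnFinite R R ι).symm (Pi.single b 1) = Finsupp.single b 1
        from Finsupp.linearEquivFunOnFinite_symm_single .., Finsupp.linearCombination_single, one_smul]
      rw [hv, sub_zero]

/-- Minimal generating families taken from a given generating set. -/
theorem exists_minimal_generators (G : Set N) (S : Submodule R N) (hG : Submodule.span R G = S) (hS : S.FG) :
    ∃ (m : ℕ) (x : Fin m → N), (∀ i, x i ∈ G) ∧ LinearMap.range (Fintype.linearCombination R x) = S ∧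
      ∀ v ∈ LinearMap.ker (Fintype.linearCombination R x), ∀ b, v b ≠ 1 := by
  classical
  obtain ⟨t, ht, hspan⟩ := Submodule.fg_span_iff_fg_span_finset_subset _ |>.1 (hG ▸ hS)
  have hex : ∃ m, ∃ x : Fin m → N, (∀ i, x i ∈ G) ∧ Submodule.span R (Set.range x) = S :=
    ⟨t.card, fun i => t.equivFin.symm i, fun i => ht (t.equivFin.symm i).2, by
      rw [Set.range_comp', t.equivFin.symm.range_eq_univ, Set.image_univ, Subtype.range_coe_subtype]
      exact hspan ▸ hG⟩
  obtain ⟨x, hxG, hx⟩ := Nat.find_spec hex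
  refine ⟨Nat.find hex, x, hxG, by rw [Fintype.range_linearCombination, hx], fun v hv b hb => ?_⟩
  have hmem := (mem_span_others_iff x b).2 ⟨v, hv, hb⟩
  obtain ⟨p, hp⟩ : ∃ p, Nat.find hex = p + 1 := ⟨Nat.find hex - 1, by have := b.2; omega⟩
  refine Nat.find_min hex (show p < Nat.find hex by omega)
    ⟨fun i => x (Fin.cast hp.symm (Fin.succAbove (Fin.cast hp b) i)), fun i => hxG _, le_antisymm ?_ ?_⟩
  · refine le_trans (Submodule.span_mono ?_) hx.le
    rintro _ ⟨i, rfl⟩
    exact ⟨_, rfl⟩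
  · have hsub : x '' {b' | b' ≠ b} ⊆ Set.range fun i => x (Fin.cast hp.symm (Fin.succAbove (Fin.cast hp b) i)) := by
      rintro _ ⟨c, hc, rfl⟩
      obtain ⟨i, hi⟩ := Fin.exists_succAbove_eq (x := Fin.cast hp c) (y := Fin.cast hp b)
        (fun e => hc (Fin.cast_injective hp e))
      exact ⟨i, by show x (Fin.cast hp.symm _) = x c; rw [hi]; rfl⟩
    refine le_trans hx.ge (Submodule.span_le.2 ?_)
    rintro _ ⟨c, rfl⟩
    by_cases hc : c = b
    · exact hc ▸ Submodule.span_mono hsub hmem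
    · exact Submodule.subset_span (hsub ⟨c, hc, rfl⟩)

end Irred

end Groth.Agent.GrSyzLib
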