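import Mathlib
import Groth.Prelude.Def_GrSyz
import Groth.Agent.GrSyzLib.Basic

/-! Minimal graded free resolutions over the polynomial ring. -/

set_option autoImplicit false
universe u

open DirectSum Matrix MvPolynomial

namespace Groth.Agent.GrSyzLib

variable {k : Type u} [Field k] {σ : Type}


theorem weight_one_eq (d : σ →₀ ℕ) : Finsupp.weight (fun _ : σ => (1 : ℤ)) d = (d.degree : ℤ) := by
  rw [Finsupp.weight_apply, Finsupp.degree_apply, Finsupp.sum, Nat.cast_sum]
  simp

theorem mem_std {n : ℤ} {p : (MvPolynomial σ k)} : p ∈ (GrSyz.stdGr k σ) n ↔ ∀ d, p.coeff d ≠ 0 → (d.degree : ℤ) = n := by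
  rw [GrSyz.mem_stdGr_iff]
  simp only [IsWeightedHomogeneous, weight_one_eq, ne_eq]

theorem eq_zero_of_mem_neg {n : ℤ} {p : (MvPolynomial σ k)} (hp : p ∈ (GrSyz.stdGr k σ) n) (hn : n < 0) : p = 0 := by
  ext d
  by_contra h
  rw [MvPolynomial.coeff_zero] at h
  have := mem_std.1 hp d h
  omega

theorem eq_C_of_mem_zero {p : (MvPolynomial σ k)} (hp : p ∈ (GrSyz.stdGr k σ) 0) : p = C (constantCoeff p) := by
  classical
  ext d
  by_cases hd : d = 0
  · subst hd; simp [constantCoeff_eq]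
  · rw [coeff_C, if_neg (Ne.symm hd)]
    by_contra h
    exact hd (Finsupp.degree_eq_zero_iff d |>.1 (by exact_mod_cast mem_std.1 hp d h))

theorem constantCoeff_of_mem_ne {n : ℤ} {p : (MvPolynomial σ k)} (hp : p ∈ (GrSyz.stdGr k σ) n) (hn : n ≠ 0) : constantCoeff p = 0 := by
  rw [constantCoeff_eq]
  by_contra h
  have := mem_std.1 hp 0 h
  simp at this
  exact hn this.symm

theorem pr_zero_eq (p : (MvPolynomial σ k)) : pr (GrSyz.stdGr k σ) 0 p = C (constantCoeff p) := by
  classical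
  have h := pr_mem (GrSyz.stdGr k σ) 0 p
  rw [eq_C_of_mem_zero h]
  congr 1
  have hsum := DirectSum.sum_support_decompose (GrSyz.stdGr k σ) p
  conv_rhs => rw [← hsum, map_sum]
  by_cases h0 : (0 : ℤ) ∈ (decompose (GrSyz.stdGr k σ) p).support
  · rw [Finset.sum_eq_single 0 (fun b _ hb => constantCoeff_of_mem_ne (decompose (GrSyz.stdGr k σ) p b).2 hb)
      (fun h' => absurd h0 h')]
    rfl
  · rw [Finset.sum_eq_zero fun b hb => constantCoeff_of_mem_ne (decompose (GrSyz.stdGr k σ) p b).2 (fun e => h0 (e ▸ hb))]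
    rw [DFinsupp.notMem_support_iff] at h0
    show constantCoeff ((decompose (GrSyz.stdGr k σ) p 0 : (GrSyz.stdGr k σ) 0) : (MvPolynomial σ k)) = 0
    rw [h0]; simp

/-- The irrelevant ideal. -/
noncomputable abbrev mm : Ideal (MvPolynomial σ k) := (GrSyz.irrel (GrSyz.stdGr k σ)).toIdeal

theorem mem_mm {p : (MvPolynomial σ k)} : p ∈ (mm : Ideal (MvPolynomial σ k)) ↔ constantCoeff p = 0 := by
  classical
  constructor
  · intro hp
    have : (mm : Ideal (MvPolynomial σ k)) ≤ RingHom.ker (constantCoeff : (MvPolynomial σ k) →+* k) := Ideal.span_le.2 fun r ⟨n, hn, hr⟩ =>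
      RingHom.mem_ker.2 (constantCoeff_of_mem_ne hr hn.ne')
    exact this hp
  · intro hp
    rw [← DirectSum.sum_support_decompose (GrSyz.stdGr k σ) p]
    refine Ideal.sum_mem _ fun b _ => ?_
    rcases lt_trichotomy b 0 with hb | rfl | hb
    · rw [eq_zero_of_mem_neg (decompose (GrSyz.stdGr k σ) p b).2 hb]; exact zero_mem _
    · show pr (GrSyz.stdGr k σ) 0 p ∈ _
      rw [pr_zero_eq, hp, map_zero]; exact zero_mem _
    · exact Ideal.subset_span ⟨b, hb, (decompose (GrSyz.stdGr k σ) p b).2⟩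

theorem eq_zero_of_mem_mm {n : ℤ} {p : (MvPolynomial σ k)} (hp : p ∈ (GrSyz.stdGr k σ) n) (hm : p ∈ (mm : Ideal (MvPolynomial σ k))) (hn : n ≤ 0) : p = 0 := by
  rcases hn.lt_or_eq with hn | rfl
  · exact eq_zero_of_mem_neg hp hn
  · rw [eq_C_of_mem_zero hp, mem_mm.1 hm, map_zero]

/-- No relation with unit coefficient: all relations lie in the irrelevant ideal. -/
theorem forall_mem_mm_iff {ι : Type*} (deg : ι → ℤ) (K : Submodule (MvPolynomial σ k) (ι → (MvPolynomial σ k)))
    (hK : ∀ j v, v ∈ K → compV (GrSyz.stdGr k σ) deg j v ∈ K) :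
    (∀ v ∈ K, ∀ b, v b ≠ 1) ↔ ∀ v ∈ K, ∀ b, v b ∈ (mm : Ideal (MvPolynomial σ k)) := by
  constructor
  · intro h v hv b
    rw [mem_mm]
    by_contra hne
    refine h _ (K.smul_mem (C (constantCoeff (v b))⁻¹) (hK (deg b) v hv)) b ?_
    rw [Pi.smul_apply, compV_apply, sub_self, pr_zero_eq, smul_eq_mul, ← map_mul, inv_mul_cancel₀ hne, map_one]
  · intro h v hv b hb
    have := h v hv b
    rw [hb, mem_mm, map_one] at this
    exact one_ne_zero this

section Res

variable {M : Type u} [AddCommGroup M] [Module k M] [Module (MvPolynomial σ k) M] {ℳ : ℤ → Submodule k M}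
  [DirectSum.Decomposition ℳ] [SetLike.GradedSMul (GrSyz.stdGr k σ) ℳ]

/-- All relations among the columns of each map lie in the irrelevant ideal. -/
theorem isMinimal_iff_ker (F : GrSyz.FreeRes (GrSyz.stdGr k σ) ℳ) :
    F.IsMinimal mm ↔ ((∀ v ∈ LinearMap.ker F.augLin, ∀ b, v b ∈ (mm : Ideal (MvPolynomial σ k))) ∧
      ∀ i, ∀ v ∈ LinearMap.ker (F.dLin i), ∀ b, v b ∈ (mm : Ideal (MvPolynomial σ k))) := by
  constructor
  · intro h
    refine ⟨fun v hv b => ?_, fun i v hv b => ?_⟩
    · obtain ⟨w, rfl⟩ := F.exact_zero.le hv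
      simp only [Matrix.mulVecLin_apply, Matrix.mulVec, dotProduct]
      exact Ideal.sum_mem _ fun c _ => Ideal.mul_mem_right _ _ (h 0 b c)
    · obtain ⟨w, rfl⟩ := (F.exact_succ i).le hv
      simp only [Matrix.mulVecLin_apply, Matrix.mulVec, dotProduct]
      exact Ideal.sum_mem _ fun c _ => Ideal.mul_mem_right _ _ (h (i + 1) b c)
  · rintro ⟨h0, hs⟩ i a b
    classical
    cases i with
    | zero =>
      have := h0 ((F.dLin 0) (Pi.single b 1)) (F.exact_zero.ge ⟨_, rfl⟩) a
      simpa using this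
    | succ i =>
      have := hs i ((F.dLin (i + 1)) (Pi.single b 1)) ((F.exact_succ i).ge ⟨_, rfl⟩) a
      simpa using this

theorem column_ne_zero (F : GrSyz.FreeRes (GrSyz.stdGr k σ) ℳ) (hF : F.IsMinimal mm) (i : ℕ) (b : Fin (F.rk (i + 1))) :
    ∃ a, F.d i a b ≠ 0 := by
  classical
  by_contra h
  push_neg at h
  have hk : (Pi.single b 1 : Fin (F.rk (i + 1)) → (MvPolynomial σ k)) ∈ LinearMap.ker (F.dLin i) := by
    rw [LinearMap.mem_ker]
    funext a
    simp [h a]
  have := ((isMinimal_iff_ker F).1 hF).2 i _ hk b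
  rw [Pi.single_eq_same, mem_mm, map_one] at this
  exact one_ne_zero this

/-- The degrees increase along a minimal resolution. -/
theorem exists_deg_lt (F : GrSyz.FreeRes (GrSyz.stdGr k σ) ℳ) (hF : F.IsMinimal mm) (i : ℕ) (b : Fin (F.rk (i + 1))) :
    ∃ a, F.deg i a + 1 ≤ F.deg (i + 1) b := by
  obtain ⟨a, ha⟩ := column_ne_zero F hF i b
  refine ⟨a, ?_⟩
  by_contra hlt
  exact ha (eq_zero_of_mem_mm (F.d_mem i a b) (hF i a b) (by omega))

theorem rk_zero_of_le (F : GrSyz.FreeRes (GrSyz.stdGr k σ) ℳ) (hF : F.IsMinimal mm) (n : ℕ) (hn : F.rk n = 0) :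
    ∀ i, n ≤ i → F.rk i = 0 := by
  intro i hi
  induction hi with
  | refl => exact hn
  | @step j _ ih =>
    by_contra hne
    obtain ⟨a, -⟩ := exists_deg_lt F hF j ⟨0, Nat.pos_of_ne_zero hne⟩
    exact absurd a.2 (by omega)

end Res

/-- A term of a resolution under construction. -/
structure Stage (k : Type u) (σ : Type) [Field k] where
  n : ℕ
  deg : Fin n → ℤ
  K : Submodule (MvPolynomial σ k) (Fin n → MvPolynomial σ k)
  closed : ∀ j v, v ∈ K → compV (GrSyz.stdGr k σ) deg j v ∈ K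

theorem exists_next [Finite σ] (S : Stage k σ) :
    ∃ (m : ℕ) (degS : Fin m → ℤ) (D : Matrix (Fin S.n) (Fin m) (MvPolynomial σ k)), HomMat (GrSyz.stdGr k σ) S.deg degS D ∧
      LinearMap.range D.mulVecLin = S.K ∧ ∀ v ∈ LinearMap.ker D.mulVecLin, ∀ b, v b ∈ (mm : Ideal (MvPolynomial σ k)) := by
  classical
  let G : Set (Fin S.n → (MvPolynomial σ k)) := {v | v ∈ S.K ∧ ∃ j, HomVec (GrSyz.stdGr k σ) S.deg j v}
  have hG : Submodule.span (MvPolynomial σ k) G = S.K := by
    refine le_antisymm (Submodule.span_le.2 fun v hv => hv.1) fun v hv => ?_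
    obtain ⟨s, hs⟩ := exists_sum_compV (GrSyz.stdGr k σ) S.deg v
    rw [← hs]
    exact Submodule.sum_mem _ fun j _ => Submodule.subset_span ⟨S.closed j v hv, j, compV_mem (GrSyz.stdGr k σ) S.deg j v⟩
  obtain ⟨m, x, hx, hrange, hrel⟩ := exists_minimal_generators G S.K hG (IsNoetherian.noetherian _)
  choose degS hdeg using fun i => (hx i).2
  let D : Matrix (Fin S.n) (Fin m) (MvPolynomial σ k) := Matrix.of fun a b => x b a
  have hD : HomMat (GrSyz.stdGr k σ) S.deg degS D := fun a b => hdeg b a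
  have heq : D.mulVecLin = Fintype.linearCombination (MvPolynomial σ k) x := by
    refine LinearMap.ext fun v => funext fun a => ?_
    simp [D, Matrix.mulVec, dotProduct, Fintype.linearCombination_apply, Finset.sum_apply, mul_comm]
  refine ⟨m, degS, D, hD, heq ▸ hrange, ?_⟩
  rw [← forall_mem_mm_iff degS _ fun j v hv => ker_mulVec_closed (GrSyz.stdGr k σ) hD j v hv, heq]
  exact hrel

section Existence

variable [Finite σ] {M : Type u} [AddCommGroup M] [Module k M] [Module (MvPolynomial σ k) M] [Module.Finite (MvPolynomial σ k) M]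
  (ℳ : ℤ → Submodule k M) [DirectSum.Decomposition ℳ] [SetLike.GradedSMul (GrSyz.stdGr k σ) ℳ]

/-- The next stage. -/
noncomputable def Stage.next (S : Stage k σ) : Stage k σ where
  n := (exists_next S).choose
  deg := (exists_next S).choose_spec.choose
  K := LinearMap.ker (exists_next S).choose_spec.choose_spec.choose.mulVecLin
  closed := fun j v hv => ker_mulVec_closed (GrSyz.stdGr k σ) (exists_next S).choose_spec.choose_spec.choose_spec.1 j v hv

/-- The matrix from the next stage. -/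
noncomputable def Stage.mat (S : Stage k σ) : Matrix (Fin S.n) (Fin S.next.n) (MvPolynomial σ k) :=
  (exists_next S).choose_spec.choose_spec.choose

theorem Stage.mat_spec (S : Stage k σ) : HomMat (GrSyz.stdGr k σ) S.deg S.next.deg S.mat ∧
    LinearMap.range S.mat.mulVecLin = S.K ∧ ∀ v ∈ S.next.K, ∀ b, v b ∈ (mm : Ideal (MvPolynomial σ k)) :=
  (exists_next S).choose_spec.choose_spec.choose_spec

theorem Stage.next_K (S : Stage k σ) : S.next.K = LinearMap.ker S.mat.mulVecLin := rfl

/-- The stages of a resolution. -/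
noncomputable def stages (S : Stage k σ) : ℕ → Stage k σ
  | 0 => S
  | i + 1 => (stages S i).next

/-- Minimal graded free resolutions exist. -/
theorem exists_minimal : ∃ F : GrSyz.FreeRes (GrSyz.stdGr k σ) ℳ, F.IsMinimal mm := by
  classical
  let G : Set M := {x | ∃ j, x ∈ ℳ j}
  have hG : Submodule.span (MvPolynomial σ k) G = ⊤ := by
    refine eq_top_iff.2 fun x _ => ?_
    obtain ⟨s, hs⟩ := sum_compM ℳ x
    rw [← hs]
    exact Submodule.sum_mem _ fun j _ => Submodule.subset_span ⟨j, compM_mem ℳ j x⟩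
  obtain ⟨m, x, hx, hrange, hrel⟩ := exists_minimal_generators G ⊤ hG Module.Finite.fg_top
  choose deg hdeg using hx
  let S0 : Stage k σ := ⟨m, deg, LinearMap.ker (Fintype.linearCombination (MvPolynomial σ k) x),
    fun j v hv => ker_lincomb_closed (GrSyz.stdGr k σ) ℳ hdeg j v hv⟩
  have h0 : ∀ v ∈ S0.K, ∀ b, v b ∈ (mm : Ideal (MvPolynomial σ k)) := (forall_mem_mm_iff deg S0.K S0.closed).1 hrel
  let F : GrSyz.FreeRes (GrSyz.stdGr k σ) ℳ :=
    { rk := fun i => (stages S0 i).n
      deg := fun i => (stages S0 i).deg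
      d := fun i => (stages S0 i).mat
      aug := x
      d_mem := fun i => (stages S0 i).mat_spec.1
      aug_mem := hdeg
      aug_surjective := LinearMap.range_eq_top.1 hrange
      exact_zero := (stages S0 0).mat_spec.2.1.symm
      exact_succ := fun i => (stages S0 (i + 1)).mat_spec.2.1.symm }
  exact ⟨F, (isMinimal_iff_ker F).2 ⟨h0, fun i => (stages S0 i).mat_spec.2.2⟩⟩

end Existence

end Groth.Agent.GrSyzLib
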