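import Mathlib
import Groth.Agent.GrSyzLib.Std
import Groth.Agent.PlanePts.Basic

/-! Hilbert functions from graded free resolutions. -/

set_option autoImplicit false
universe u

open DirectSum Matrix MvPolynomial

namespace Groth.Agent.GrSyzLib

variable {k : Type u} [Field k] {r : ℕ}

theorem stdGr_eq_bot {n : ℤ} (hn : n < 0) : GrSyz.stdGr k (Fin (r + 1)) n = ⊥ :=
  (Submodule.eq_bot_iff _).2 fun _ hp => eq_zero_of_mem_neg hp hn

theorem stdGr_eq_homogeneous {n : ℤ} (hn : 0 ≤ n) :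
    GrSyz.stdGr k (Fin (r + 1)) n = homogeneousSubmodule (Fin (r + 1)) k n.toNat := by
  ext p
  rw [mem_std, mem_homogeneousSubmodule]
  simp only [IsHomogeneous, IsWeightedHomogeneous, ← Finsupp.degree_eq_weight_one]
  refine forall_congr' fun d => imp_congr_right fun _ => ?_
  rw [show Finsupp.weight 1 d = d.degree by rw [Finsupp.degree_eq_weight_one]; rfl]
  omega

instance (n : ℤ) : FiniteDimensional k (GrSyz.stdGr k (Fin (r + 1)) n) := by
  by_cases hn : n < 0
  · rw [stdGr_eq_bot hn]; infer_instance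
  · rw [stdGr_eq_homogeneous (not_lt.1 hn)]
    exact Module.finite_of_finrank_pos (by rw [PlanePts.finrank_hom]; exact Nat.choose_pos (Nat.le_add_left _ _))

theorem finrank_stdGr (n : ℤ) : (Module.finrank k (GrSyz.stdGr k (Fin (r + 1)) n) : ℤ) =
    if 0 ≤ n then ((Nat.choose (r + n.toNat) r : ℕ) : ℤ) else 0 := by
  by_cases hn : 0 ≤ n
  · rw [if_pos hn, stdGr_eq_homogeneous hn, PlanePts.finrank_hom, add_comm]
  · rw [if_neg hn, stdGr_eq_bot (not_le.1 hn), finrank_bot]; rfl

/-- Homogeneous vectors of a given degree. -/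
noncomputable def homSub {ι : Type} (deg : ι → ℤ) (d : ℤ) :
    Submodule k (ι → MvPolynomial (Fin (r + 1)) k) :=
  Submodule.pi Set.univ fun a => GrSyz.stdGr k (Fin (r + 1)) (d - deg a)

theorem mem_homSub {ι : Type} {deg : ι → ℤ} {d : ℤ} {v : ι → MvPolynomial (Fin (r + 1)) k} :
    v ∈ homSub deg d ↔ HomVec (GrSyz.stdGr k (Fin (r + 1))) deg d v :=
  ⟨fun h a => h a (Set.mem_univ a), fun h a _ => h a⟩

noncomputable def homSubEquiv {ι : Type} (deg : ι → ℤ) (d : ℤ) :
    homSub (k := k) (r := r) deg d ≃ₗ[k] ((a : ι) → GrSyz.stdGr k (Fin (r + 1)) (d - deg a)) where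
  toFun v a := ⟨v.1 a, v.2 a (Set.mem_univ a)⟩
  invFun w := ⟨fun a => (w a).1, fun a _ => (w a).2⟩
  map_add' _ _ := rfl
  map_smul' _ _ := rfl

instance {ι : Type} [Finite ι] (deg : ι → ℤ) (d : ℤ) : FiniteDimensional k (homSub (k := k) (r := r) deg d) :=
  Module.Finite.equiv (homSubEquiv deg d).symm

theorem finrank_homSub {ι : Type} [Fintype ι] (deg : ι → ℤ) (d : ℤ) :
    (Module.finrank k (homSub (k := k) (r := r) deg d) : ℤ) =
      ∑ a : ι, if deg a ≤ d then ((Nat.choose (r + (d - deg a).toNat) r : ℕ) : ℤ) else 0 := by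
  rw [(homSubEquiv deg d).finrank_eq, Module.finrank_pi_fintype, Nat.cast_sum]
  refine Finset.sum_congr rfl fun a _ => ?_
  rw [finrank_stdGr]
  exact if_congr sub_nonneg rfl rfl

variable {M : Type u} [AddCommGroup M] [Module k M] [Module (MvPolynomial (Fin (r + 1)) k) M]
  [IsScalarTower k (MvPolynomial (Fin (r + 1)) k) M] {ℳ : ℤ → Submodule k M}
  [DirectSum.Decomposition ℳ] [SetLike.GradedSMul (GrSyz.stdGr k (Fin (r + 1))) ℳ]
  (F : GrSyz.FreeRes (GrSyz.stdGr k (Fin (r + 1))) ℳ) (d : ℤ)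

/-- The differential in degree `d`. -/
noncomputable def phi (i : ℕ) :
    homSub (k := k) (r := r) (F.deg (i + 1)) d →ₗ[k] homSub (k := k) (r := r) (F.deg i) d :=
  ((F.dLin i).restrictScalars k).restrict fun v hv => mem_homSub.2 <| by
    have h := compV_mulVec (GrSyz.stdGr k (Fin (r + 1))) (F.d_mem i) d v
    rw [compV_of_hom _ (mem_homSub.1 hv), if_pos rfl] at h
    have hm := compV_mem (GrSyz.stdGr k (Fin (r + 1))) (F.deg i) d ((F.d i).mulVec v)
    rw [h] at hm
    exact hm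

/-- The augmentation in degree `d`. -/
noncomputable def phiAug : homSub (k := k) (r := r) (F.deg 0) d →ₗ[k] ℳ d :=
  ((F.augLin).restrictScalars k).restrict fun v hv => by
    have h := compM_lincomb (GrSyz.stdGr k (Fin (r + 1))) ℳ F.aug_mem v d
    rw [compV_of_hom _ (mem_homSub.1 hv), if_pos rfl] at h
    have hm := compM_mem ℳ d (F.augLin v)
    rw [show compM ℳ d (F.augLin v) = F.augLin v from h] at hm
    exact hm

theorem ker_phiAug : LinearMap.ker (phiAug F d) = LinearMap.range (phi F d 0) := by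
  ext v
  constructor
  · intro hv
    obtain ⟨w, hw⟩ := F.exact_zero.le (show v.1 ∈ LinearMap.ker F.augLin from congrArg Subtype.val hv)
    refine ⟨⟨compV _ (F.deg 1) d w, mem_homSub.2 (compV_mem _ _ _ _)⟩, Subtype.ext ?_⟩
    show (F.d 0).mulVec (compV _ (F.deg 1) d w) = v.1
    rw [← compV_mulVec _ (F.d_mem 0), show (F.d 0).mulVec w = v.1 from hw,
      compV_of_hom _ (mem_homSub.1 v.2), if_pos rfl]
  · rintro ⟨w, rfl⟩
    exact Subtype.ext (F.exact_zero.ge ⟨w.1, rfl⟩)

theorem ker_phi (i : ℕ) : LinearMap.ker (phi F d i) = LinearMap.range (phi F d (i + 1)) := by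
  ext v
  constructor
  · intro hv
    obtain ⟨w, hw⟩ := (F.exact_succ i).le (show v.1 ∈ LinearMap.ker (F.dLin i) from congrArg Subtype.val hv)
    refine ⟨⟨compV _ (F.deg (i + 2)) d w, mem_homSub.2 (compV_mem _ _ _ _)⟩, Subtype.ext ?_⟩
    show (F.d (i + 1)).mulVec (compV _ (F.deg (i + 2)) d w) = v.1
    rw [← compV_mulVec _ (F.d_mem (i + 1)), show (F.d (i + 1)).mulVec w = v.1 from hw,
      compV_of_hom _ (mem_homSub.1 v.2), if_pos rfl]
  · rintro ⟨w, rfl⟩
    exact Subtype.ext ((F.exact_succ i).ge ⟨w.1, rfl⟩)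

theorem range_phiAug : LinearMap.range (phiAug F d) = ⊤ := by
  refine eq_top_iff.2 fun x _ => ?_
  obtain ⟨v, hv⟩ := F.aug_surjective x.1
  refine ⟨⟨compV _ (F.deg 0) d v, mem_homSub.2 (compV_mem _ _ _ _)⟩, Subtype.ext ?_⟩
  show F.augLin (compV _ (F.deg 0) d v) = x.1
  rw [GrSyz.FreeRes.augLin, ← compM_lincomb _ ℳ F.aug_mem, hv, compM_of_mem ℳ x.2, if_pos rfl]

/-- The Hilbert function of a resolved module. -/
theorem finrank_piece {m : ℕ} (hF : F.HasLengthLE m) :
    (Module.finrank k (ℳ d) : ℤ) = ∑ i ∈ Finset.range (m + 1), (-1 : ℤ) ^ i * ∑ b : Fin (F.rk i),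
      (if F.deg i b ≤ d then ((Nat.choose (r + (d - F.deg i b).toNat) r : ℕ) : ℤ) else 0) := by
  have h0 := LinearMap.finrank_range_add_finrank_ker (phiAug F d)
  rw [ker_phiAug, range_phiAug, finrank_top] at h0
  have hstep : ∀ n, (Module.finrank k (ℳ d) : ℤ) + (-1) ^ n * (Module.finrank k (LinearMap.range (phi F d n)) : ℤ) =
      ∑ i ∈ Finset.range (n + 1), (-1 : ℤ) ^ i * (Module.finrank k (homSub (k := k) (r := r) (F.deg i) d) : ℤ) := by
    intro n
    induction n with
    | zero => simp only [Finset.sum_range_one, pow_zero, one_mul, zero_add]; exact_mod_cast h0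
    | succ n ih =>
      have hn := LinearMap.finrank_range_add_finrank_ker (phi F d n)
      rw [ker_phi] at hn
      rw [Finset.sum_range_succ, ← ih, ← hn, Nat.cast_add, pow_succ]
      ring
  rw [Finset.sum_congr rfl fun i _ => congrArg ((-1 : ℤ) ^ i * ·) (finrank_homSub (k := k) (r := r) (F.deg i) d).symm,
    ← hstep m]
  haveI : IsEmpty (Fin (F.rk (m + 1))) := by rw [hF (m + 1) (by omega)]; infer_instance
  have hz : LinearMap.range (phi F d m) = ⊥ := by
    refine LinearMap.range_eq_bot.2 (LinearMap.ext fun v => ?_)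
    rw [show v = 0 from Subtype.ext (Subsingleton.elim _ _), map_zero, map_zero]
  rw [hz, finrank_bot]
  simp

end Groth.Agent.GrSyzLib
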