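import Mathlib
import Groth.Agent.GrSyzLib.Std
import Groth.Agent.CAlgReg.GlobalDim

/-! Projective dimension and minimal resolutions. -/

set_option autoImplicit false
universe u

open DirectSum Matrix MvPolynomial CategoryTheory

namespace Groth.Agent.GrSyzLib

variable {k : Type u} [Field k] {σ : Type}

theorem compV_smul_hom {ι : Type} {deg : ι → ℤ} {e : ℤ} {w : ι → MvPolynomial σ k}
    (hw : HomVec (GrSyz.stdGr k σ) deg e w) (p : MvPolynomial σ k) (j : ℤ) :
    compV (GrSyz.stdGr k σ) deg j (p • w) = pr (GrSyz.stdGr k σ) (j - e) p • w := by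
  funext a
  rw [compV_apply, Pi.smul_apply, Pi.smul_apply, smul_eq_mul, smul_eq_mul, pr_mul_right _ (hw a),
    sub_sub_sub_cancel_right]

theorem pr_mem_mm {p : MvPolynomial σ k} (hp : p ∈ (mm : Ideal (MvPolynomial σ k))) (n : ℤ) :
    pr (GrSyz.stdGr k σ) n p ∈ (mm : Ideal (MvPolynomial σ k)) := by
  rw [mem_mm]
  by_cases hn : n = 0
  · subst hn
    rw [pr_zero_eq, mem_mm.1 hp, map_zero, map_zero]
  · exact constantCoeff_of_mem_ne (pr_mem _ n p) hn

/-- Graded Nakayama lemma for submodules of free modules. -/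
theorem eq_bot_of_mm_combination {ι : Type} [Fintype ι] (deg : ι → ℤ)
    (K : Submodule (MvPolynomial σ k) (ι → MvPolynomial σ k))
    (hK : ∀ j v, v ∈ K → compV (GrSyz.stdGr k σ) deg j v ∈ K) {κ : Type} [Fintype κ]
    (w : κ → ι → MvPolynomial σ k) (hw : ∀ c, w c ∈ K)
    (h : ∀ v ∈ K, ∃ p : κ → MvPolynomial σ k, (∀ c, p c ∈ (mm : Ideal (MvPolynomial σ k))) ∧ ∑ c, p c • w c = v) :
    K = ⊥ := by
  classical
  by_contra hne
  have hex : ∃ j, ∃ v ∈ K, HomVec (GrSyz.stdGr k σ) deg j v ∧ v ≠ 0 := by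
    obtain ⟨v, hv, hv0⟩ := Submodule.exists_mem_ne_zero_of_ne_bot hne
    obtain ⟨s, hs⟩ := exists_sum_compV (GrSyz.stdGr k σ) deg v
    by_contra hc
    push Not at hc
    exact hv0 (hs ▸ Finset.sum_eq_zero fun j _ => hc j _ (hK j v hv) (compV_mem _ deg j v))
  obtain ⟨B, hB⟩ : ∃ B : ℤ, ∀ a, B ≤ deg a := by
    obtain ⟨B, hB⟩ := (Set.finite_range deg).bddBelow
    exact ⟨B, fun a => hB ⟨a, rfl⟩⟩
  have hbdd : ∀ j, (∃ v ∈ K, HomVec (GrSyz.stdGr k σ) deg j v ∧ v ≠ 0) → B ≤ j := by
    rintro j ⟨v, -, hv, hv0⟩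
    obtain ⟨a, ha⟩ := Function.ne_iff.1 hv0
    by_contra hlt
    exact ha (eq_zero_of_mem_neg (hv a) (by have := hB a; omega))
  obtain ⟨j, ⟨v, hv, hvj, hv0⟩, hmin⟩ := Int.exists_least_of_bdd ⟨B, hbdd⟩ hex
  obtain ⟨p, hp, hsum⟩ := h v hv
  apply hv0
  have hvv : compV (GrSyz.stdGr k σ) deg j v = v := by rw [compV_of_hom _ hvj, if_pos rfl]
  rw [← hvv, ← hsum, map_sum]
  refine Finset.sum_eq_zero fun c _ => ?_
  obtain ⟨s, hs⟩ := exists_sum_compV (GrSyz.stdGr k σ) deg (w c)
  rw [← hs, Finset.smul_sum, map_sum]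
  refine Finset.sum_eq_zero fun e _ => ?_
  rw [compV_smul_hom (compV_mem _ deg e (w c))]
  by_cases he : j ≤ e
  · rw [eq_zero_of_mem_mm (pr_mem _ _ _) (pr_mem_mm (hp c) _) (by omega), zero_smul]
  · have : compV (GrSyz.stdGr k σ) deg e (w c) = 0 := by
      by_contra hz
      exact he (hmin e ⟨_, hK e _ (hw c), compV_mem _ deg e (w c), hz⟩)
    rw [this, smul_zero]

/-- A minimal cover of a projective module is injective. -/
theorem ker_eq_bot_of_projective {n : ℕ} (deg : Fin n → ℤ) {T : Type u} [AddCommGroup T]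
    [Module (MvPolynomial σ k) T] [Module.Projective (MvPolynomial σ k) T]
    (q : (Fin n → MvPolynomial σ k) →ₗ[MvPolynomial σ k] T) (hq : Function.Surjective q)
    (hclosed : ∀ j v, v ∈ LinearMap.ker q → compV (GrSyz.stdGr k σ) deg j v ∈ LinearMap.ker q)
    (hmin : ∀ v ∈ LinearMap.ker q, ∀ b, v b ∈ (mm : Ideal (MvPolynomial σ k))) : LinearMap.ker q = ⊥ := by
  classical
  obtain ⟨s, hs⟩ := Module.projective_lifting_property q LinearMap.id hq
  have hs' : ∀ t, q (s t) = t := fun t => LinearMap.congr_fun hs t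
  let π : (Fin n → MvPolynomial σ k) →ₗ[MvPolynomial σ k] (Fin n → MvPolynomial σ k) := LinearMap.id - s ∘ₗ q
  refine eq_bot_of_mm_combination deg _ hclosed (fun b => π (Pi.single b 1)) (fun b => ?_) (fun v hv => ⟨v, hmin v hv, ?_⟩)
  · rw [LinearMap.mem_ker]
    show q (Pi.single b 1 - s (q (Pi.single b 1))) = 0
    rw [map_sub, hs', sub_self]
  · have hπv : π v = v := by
      show v - s (q v) = v
      rw [LinearMap.mem_ker.1 hv, map_zero, sub_zero]
    conv_rhs => rw [← hπv, pi_eq_sum_univ' v, map_sum]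
    simp only [map_smul]

variable {M : Type u} [AddCommGroup M] [Module k M] [Module (MvPolynomial σ k) M] {ℳ : ℤ → Submodule k M}
  [DirectSum.Decomposition ℳ] [SetLike.GradedSMul (GrSyz.stdGr k σ) ℳ]

/-- The syzygy modules. -/
noncomputable def syz (F : GrSyz.FreeRes (GrSyz.stdGr k σ) ℳ) :
    (i : ℕ) → Submodule (MvPolynomial σ k) (Fin (F.rk i) → MvPolynomial σ k)
  | 0 => LinearMap.ker F.augLin
  | i + 1 => LinearMap.ker (F.dLin i)

theorem syz_closed (F : GrSyz.FreeRes (GrSyz.stdGr k σ) ℳ) (i : ℕ) (j : ℤ) (v : Fin (F.rk i) → MvPolynomial σ k)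
    (hv : v ∈ syz F i) : compV (GrSyz.stdGr k σ) (F.deg i) j v ∈ syz F i := by
  cases i with
  | zero => exact ker_lincomb_closed _ ℳ F.aug_mem j v hv
  | succ i => exact ker_mulVec_closed _ (F.d_mem i) j v hv

theorem syz_minimal (F : GrSyz.FreeRes (GrSyz.stdGr k σ) ℳ) (hF : F.IsMinimal mm) (i : ℕ) :
    ∀ v ∈ syz F i, ∀ b, v b ∈ (mm : Ideal (MvPolynomial σ k)) := by
  cases i with
  | zero => exact ((isMinimal_iff_ker F).1 hF).1
  | succ i => exact ((isMinimal_iff_ker F).1 hF).2 i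

theorem range_d (F : GrSyz.FreeRes (GrSyz.stdGr k σ) ℳ) (i : ℕ) : LinearMap.range (F.dLin i) = syz F i := by
  cases i with
  | zero => exact F.exact_zero.symm
  | succ i => exact (F.exact_succ i).symm

/-- The surjection from a term onto the preceding syzygy module. -/
noncomputable def cover (F : GrSyz.FreeRes (GrSyz.stdGr k σ) ℳ) (i : ℕ) :
    (Fin (F.rk (i + 1)) → MvPolynomial σ k) →ₗ[MvPolynomial σ k] syz F i :=
  (F.dLin i).codRestrict _ fun v => (range_d F i).le ⟨v, rfl⟩

theorem cover_surjective (F : GrSyz.FreeRes (GrSyz.stdGr k σ) ℳ) (i : ℕ) : Function.Surjective (cover F i) :=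
  fun ⟨x, hx⟩ => by
    obtain ⟨v, hv⟩ := (range_d F i).ge hx
    exact ⟨v, Subtype.ext hv⟩

theorem ker_cover (F : GrSyz.FreeRes (GrSyz.stdGr k σ) ℳ) (i : ℕ) : LinearMap.ker (cover F i) = syz F (i + 1) :=
  LinearMap.ker_codRestrict _ _ _

theorem rk_succ_eq_zero_iff (F : GrSyz.FreeRes (GrSyz.stdGr k σ) ℳ) (hF : F.IsMinimal mm) (i : ℕ) :
    F.rk (i + 1) = 0 ↔ syz F i = ⊥ := by
  constructor
  · intro h
    haveI : IsEmpty (Fin (F.rk (i + 1))) := by rw [h]; infer_instance
    rw [← range_d, LinearMap.range_eq_bot]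
    exact LinearMap.ext fun v => by rw [Subsingleton.elim v 0, map_zero, map_zero]
  · intro h
    by_contra hne
    obtain ⟨a, ha⟩ := column_ne_zero F hF i ⟨0, Nat.pos_of_ne_zero hne⟩
    have h0 : F.dLin i = 0 := LinearMap.range_eq_bot.1 ((range_d F i).trans h)
    exact ha (by simpa using congrFun (LinearMap.congr_fun h0 (Pi.single ⟨0, Nat.pos_of_ne_zero hne⟩ 1)) a)

theorem pdLE_succ_iff {A B : Type u} [AddCommGroup A] [Module (MvPolynomial σ k) A]
    [Module.Projective (MvPolynomial σ k) A] [AddCommGroup B] [Module (MvPolynomial σ k) B]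
    (q : A →ₗ[MvPolynomial σ k] B) (hq : Function.Surjective q) (n : ℕ) :
    HasProjectiveDimensionLE (ModuleCat.of (MvPolynomial σ k) B) (n + 1) ↔
      HasProjectiveDimensionLE (ModuleCat.of (MvPolynomial σ k) (LinearMap.ker q)) n := by
  have hS := LinearMap.shortExact_shortComplexKer hq
  haveI : Projective q.shortComplexKer.X₂ := (IsProjective.iff_projective (R := MvPolynomial σ k) A).1 inferInstance
  exact hS.hasProjectiveDimensionLT_X₃_iff n inferInstance

theorem pdLE_zero_iff (B : Type u) [AddCommGroup B] [Module (MvPolynomial σ k) B] :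
    HasProjectiveDimensionLE (ModuleCat.of (MvPolynomial σ k) B) 0 ↔ Module.Projective (MvPolynomial σ k) B := by
  rw [HasProjectiveDimensionLE, zero_add, ← projective_iff_hasProjectiveDimensionLT_one, ← IsProjective.iff_projective]

theorem pdLE_syz_iff (F : GrSyz.FreeRes (GrSyz.stdGr k σ) ℳ) (n : ℕ) :
    ∀ i, HasProjectiveDimensionLE (ModuleCat.of (MvPolynomial σ k) (syz F i)) n ↔
      Module.Projective (MvPolynomial σ k) (syz F (i + n)) := by
  induction n with
  | zero => exact fun i => pdLE_zero_iff _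
  | succ n ih =>
    intro i
    rw [pdLE_succ_iff (cover F i) (cover_surjective F i), ker_cover, ih, show i + 1 + n = i + (n + 1) by omega]

/-- The length of a minimal resolution is the projective dimension. -/
theorem hasLengthLE_iff (F : GrSyz.FreeRes (GrSyz.stdGr k σ) ℳ) (hF : F.IsMinimal mm) (n : ℕ) :
    F.HasLengthLE n ↔ HasProjectiveDimensionLE (ModuleCat.of (MvPolynomial σ k) M) n := by
  have hlen : F.HasLengthLE n ↔ F.rk (n + 1) = 0 :=
    ⟨fun h => h _ (by omega), fun h i hi => rk_zero_of_le F hF _ h i (by omega)⟩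
  rw [hlen, rk_succ_eq_zero_iff F hF]
  have key : ∀ {T : Type u} [AddCommGroup T] [Module (MvPolynomial σ k) T] (i : ℕ)
      (q : (Fin (F.rk i) → MvPolynomial σ k) →ₗ[MvPolynomial σ k] T), Function.Surjective q →
      LinearMap.ker q = syz F i → (syz F i = ⊥ ↔ Module.Projective (MvPolynomial σ k) T) := by
    intro T _ _ i q hq hk
    constructor
    · intro h
      exact Module.Projective.of_equiv (LinearEquiv.ofBijective q ⟨LinearMap.ker_eq_bot.1 (hk.trans h), hq⟩)
    · intro h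
      rw [← hk]
      exact ker_eq_bot_of_projective (F.deg i) q hq (fun j v hv => hk.ge (syz_closed F i j v (hk.le hv)))
        (fun v hv => syz_minimal F hF i v (hk.le hv))
  cases n with
  | zero =>
    rw [pdLE_zero_iff]
    exact key 0 F.augLin F.aug_surjective rfl
  | succ n =>
    rw [pdLE_succ_iff F.augLin F.aug_surjective, show LinearMap.ker F.augLin = syz F 0 from rfl, pdLE_syz_iff,
      zero_add]
    exact key (n + 1) (cover F n) (cover_surjective F n) (ker_cover F n)

/-- Hilbert's syzygy theorem for finite modules. -/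
theorem pdLE_of_finite (m : ℕ) (N : Type u) [AddCommGroup N] [Module (MvPolynomial (Fin m) k) N]
    [Module.Finite (MvPolynomial (Fin m) k) N] :
    HasProjectiveDimensionLE (ModuleCat.of (MvPolynomial (Fin m) k) N) m := by
  rw [ModuleCat.hasProjectiveDimensionLE_iff_forall_maximalSpectrum]
  intro p
  haveI := p.isMaximal
  have hle : ringKrullDim (Localization.AtPrime p.asIdeal) ≤ m := by
    rw [IsLocalization.AtPrime.ringKrullDim_eq_height p.asIdeal]
    refine le_trans (Ideal.height_le_ringKrullDim_of_ne_top p.isMaximal.ne_top) ?_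
    rw [MvPolynomial.ringKrullDim_of_isNoetherianRing, ringKrullDim_eq_zero_of_field]
    simp
  obtain ⟨d, hd⟩ : ∃ d : ℕ, ringKrullDim (Localization.AtPrime p.asIdeal) = d := by
    rw [IsLocalization.AtPrime.ringKrullDim_eq_height p.asIdeal]
    exact ⟨p.asIdeal.height.toNat, by
      rw [← WithBot.coe_natCast, ENat.coe_toNat (Ideal.height_ne_top p.isMaximal.ne_top)]⟩
  rw [hd] at hle
  have hdm : d ≤ m := by exact_mod_cast hle
  exact CAlgReg.pdLT_mono (show d + 1 ≤ m + 1 by omega) (CAlgReg.pdLT_of_isRegularLocalRing hd _)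

end Groth.Agent.GrSyzLib
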