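import Mathlib
import Groth.Agent.GrSyzLib.Std

/-! Tor against the residue field from a minimal graded free resolution. -/

set_option autoImplicit false
universe u

open DirectSum Matrix MvPolynomial CategoryTheory MonoidalCategory

namespace Groth.Agent.GrSyzLib

variable {k : Type u} [Field k] {σ : Type} {M : Type u} [AddCommGroup M] [Module k M]
  [Module (MvPolynomial σ k) M] {ℳ : ℤ → Submodule k M} [DirectSum.Decomposition ℳ]
  [SetLike.GradedSMul (GrSyz.stdGr k σ) ℳ] (F : GrSyz.FreeRes (GrSyz.stdGr k σ) ℳ)

theorem dLin_comp (i : ℕ) : (F.dLin i).comp (F.dLin (i + 1)) = 0 :=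
  LinearMap.ext fun v => (F.exact_succ i).ge ⟨v, rfl⟩

theorem augLin_comp : F.augLin.comp (F.dLin 0) = 0 :=
  LinearMap.ext fun v => F.exact_zero.ge ⟨v, rfl⟩

/-- The underlying complex of a graded free resolution. -/
noncomputable def complexOf : ChainComplex (ModuleCat.{u} (MvPolynomial σ k)) ℕ :=
  ChainComplex.of (fun i => ModuleCat.of (MvPolynomial σ k) (Fin (F.rk i) → MvPolynomial σ k))
    (fun i => ModuleCat.ofHom (F.dLin i))
    (fun i => by rw [← ModuleCat.ofHom_comp, dLin_comp]; rfl)

theorem complexOf_d (i : ℕ) : (complexOf F).d (i + 1) i = ModuleCat.ofHom (F.dLin i) :=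
  ChainComplex.of_d (fun i => ModuleCat.of (MvPolynomial σ k) (Fin (F.rk i) → MvPolynomial σ k)) (fun i => ModuleCat.ofHom (F.dLin i)) i

set_option backward.isDefEq.respectTransparency false in
/-- The underlying projective resolution. -/
noncomputable def resOf : ProjectiveResolution (ModuleCat.of (MvPolynomial σ k) M) where
  complex := complexOf F
  projective i := (IsProjective.iff_projective (R := MvPolynomial σ k) (Fin (F.rk i) → MvPolynomial σ k)).1 inferInstance
  π := (ChainComplex.toSingle₀Equiv _ _).symm ⟨ModuleCat.ofHom F.augLin, by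
    rw [complexOf_d]
    exact ModuleCat.hom_ext (augLin_comp F)⟩
  quasiIso := ⟨fun n => by
    cases n with
    | zero =>
      rw [ChainComplex.quasiIsoAt₀_iff, ShortComplex.quasiIso_iff_of_zeros']
      · refine (ShortComplex.exact_and_epi_g_iff_of_iso ?_).2
          (show (ShortComplex.mk (ModuleCat.ofHom (F.dLin 0)) (ModuleCat.ofHom F.augLin)
            (ModuleCat.hom_ext (augLin_comp F))).Exact ∧ Epi (ModuleCat.ofHom F.augLin) from
            ⟨(ShortComplex.moduleCat_exact_iff_range_eq_ker _).2 F.exact_zero.symm,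
              (ModuleCat.epi_iff_surjective _).2 F.aug_surjective⟩)
        exact ShortComplex.isoMk (Iso.refl _) (Iso.refl _) (Iso.refl _) (by simp [complexOf_d]) (by simp)
      all_goals rfl
    | succ n =>
      rw [quasiIsoAt_iff_exactAt']
      · rw [HomologicalComplex.exactAt_iff' _ (n + 1 + 1) (n + 1) n (by simp) (by simp),
          ShortComplex.moduleCat_exact_iff_range_eq_ker]
        simp only [HomologicalComplex.sc', HomologicalComplex.shortComplexFunctor', complexOf_d]
        exact (F.exact_succ n).symm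
      · exact ChainComplex.exactAt_succ_single_obj _ _⟩

theorem lTensor_dLin_eq_zero (hF : F.IsMinimal mm) (i : ℕ) :
    (F.dLin i).lTensor (MvPolynomial σ k ⧸ (mm : Ideal (MvPolynomial σ k))) = 0 := by
  refine TensorProduct.ext' fun x v => ?_
  rw [LinearMap.lTensor_tmul, LinearMap.zero_apply, pi_eq_sum_univ' (F.dLin i v), TensorProduct.tmul_sum]
  refine Finset.sum_eq_zero fun a _ => ?_
  rw [TensorProduct.tmul_smul, TensorProduct.smul_tmul']
  have hmem : F.dLin i v a ∈ (mm : Ideal (MvPolynomial σ k)) := by
    simp only [GrSyz.FreeRes.dLin, Matrix.mulVecLin_apply, Matrix.mulVec, dotProduct]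
    exact Ideal.sum_mem _ fun c _ => Ideal.mul_mem_right _ _ (hF i a c)
  obtain ⟨y, rfl⟩ := Ideal.Quotient.mk_surjective x
  rw [show F.dLin i v a • Ideal.Quotient.mk (mm : Ideal (MvPolynomial σ k)) y = 0 from
    Ideal.Quotient.eq_zero_iff_mem.2 (Ideal.mul_mem_right _ _ hmem), TensorProduct.zero_tmul]

set_option backward.isDefEq.respectTransparency false in
/-- Tor against the residue field has length the rank. -/
theorem length_tor (hF : F.IsMinimal mm) (i : ℕ) :
    Module.length (MvPolynomial σ k)
      (((CategoryTheory.Tor (ModuleCat.{u} (MvPolynomial σ k)) i).obj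
        (ModuleCat.of (MvPolynomial σ k) (MvPolynomial σ k ⧸ (mm : Ideal (MvPolynomial σ k))))).obj
        (ModuleCat.of (MvPolynomial σ k) M)) = (F.rk i : ℕ∞) := by
  let Q := MvPolynomial σ k ⧸ (mm : Ideal (MvPolynomial σ k))
  let G := MonoidalCategory.tensorLeft (ModuleCat.of (MvPolynomial σ k) Q)
  let K := (G.mapHomologicalComplex (ComplexShape.down ℕ)).obj (resOf F).complex
  have hd : ∀ a b, K.d a b = 0 := fun a b => by
    by_cases h : b + 1 = a
    · subst h
      show G.map ((complexOf F).d (b + 1) b) = 0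
      rw [complexOf_d]
      exact ModuleCat.hom_ext (lTensor_dLin_eq_zero F hF b)
    · exact K.shape a b h
  have e : ((CategoryTheory.Tor (ModuleCat.{u} (MvPolynomial σ k)) i).obj (ModuleCat.of _ Q)).obj
      (ModuleCat.of _ M) ≅ (K.sc i).homology := (resOf F).isoLeftDerivedObj G i
  have e' := e ≪≫ (ShortComplex.LeftHomologyData.ofZeros (K.sc i) (hd _ _) (hd _ _)).homologyIso
  rw [e'.toLinearEquiv.length_eq]
  show Module.length (MvPolynomial σ k) (TensorProduct (MvPolynomial σ k) Q (Fin (F.rk i) → MvPolynomial σ k)) = _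
  rw [(TensorProduct.piScalarRight (MvPolynomial σ k) (MvPolynomial σ k) Q (Fin (F.rk i))).length_eq,
    Module.length_pi_of_fintype, Finset.sum_const, Finset.card_univ, Fintype.card_fin, nsmul_eq_mul]
  have hmax : (mm : Ideal (MvPolynomial σ k)).IsMaximal := by
    have : (mm : Ideal (MvPolynomial σ k)) = RingHom.ker (constantCoeff : MvPolynomial σ k →+* k) :=
      Ideal.ext fun p => mem_mm
    rw [this]
    exact RingHom.ker_isMaximal_of_surjective _ fun c => ⟨C c, constantCoeff_C σ c⟩
  haveI : IsSimpleModule (MvPolynomial σ k) Q := isSimpleModule_iff_isCoatom.2 hmax.out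
  rw [Module.length_eq_one, mul_one]

end Groth.Agent.GrSyzLib
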