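import Mathlib
import Groth.Agent.GrSyzLib.Std

/-! Uniqueness of the Betti numbers of minimal graded free resolutions. -/

set_option autoImplicit false
universe u

open DirectSum Matrix MvPolynomial

namespace Groth.Agent.GrSyzLib

variable {k : Type u} [Field k] {σ : Type} {M : Type u} [AddCommGroup M] [Module k M] [Module (MvPolynomial σ k) M]
  {ℳ : ℤ → Submodule k M} [DirectSum.Decomposition ℳ] [SetLike.GradedSMul (GrSyz.stdGr k σ) ℳ]

theorem d_mul_d (F : GrSyz.FreeRes (GrSyz.stdGr k σ) ℳ) (i : ℕ) : F.d i * F.d (i + 1) = 0 := by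
  classical
  refine Matrix.ext_of_mulVec_single fun c => ?_
  rw [← Matrix.mulVec_mulVec, Matrix.zero_mulVec]
  exact (F.exact_succ i).ge ⟨_, rfl⟩

theorem col_mul {a b c : Type*} [Fintype b] (D : Matrix a b (MvPolynomial σ k)) (E : Matrix b c (MvPolynomial σ k))
    (j : c) : (fun x => (D * E) x j) = D.mulVec fun y => E y j :=
  funext fun x => by simp [Matrix.mul_apply, Matrix.mulVec, dotProduct]

/-- A degree preserving lift of the identity between two resolutions. -/
theorem exists_comparison (F G : GrSyz.FreeRes (GrSyz.stdGr k σ) ℳ) :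
    ∃ Φ : ∀ i, Matrix (Fin (G.rk i)) (Fin (F.rk i)) (MvPolynomial σ k),
      (∀ i, HomMat (GrSyz.stdGr k σ) (G.deg i) (F.deg i) (Φ i)) ∧
      (∀ b, G.augLin (fun a => Φ 0 a b) = F.aug b) ∧ ∀ i, G.d i * Φ (i + 1) = Φ i * F.d i := by
  classical
  obtain ⟨H0, hH0, hH0'⟩ := exists_lift_aug (GrSyz.stdGr k σ) ℳ G.aug_mem G.aug_surjective (y := F.aug) F.aug_mem
  let P : ∀ i, Matrix (Fin (G.rk i)) (Fin (F.rk i)) (MvPolynomial σ k) → Prop := fun i H =>
    HomMat (GrSyz.stdGr k σ) (G.deg i) (F.deg i) H ∧ ∀ b, (fun a => (H * F.d i) a b) ∈ LinearMap.range (G.dLin i)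
  have base : P 0 H0 := ⟨hH0, fun b => G.exact_zero.le (by
    rw [LinearMap.mem_ker, col_mul]
    show G.augLin (H0.mulVecLin fun y => F.d 0 y b) = 0
    have h1 : G.augLin.comp H0.mulVecLin = F.augLin := by
      refine LinearMap.pi_ext' fun c => LinearMap.ext_ring ?_
      simp only [LinearMap.comp_apply, LinearMap.single_apply, Matrix.mulVecLin_apply, Matrix.mulVec_single_one]
      rw [show F.augLin (Pi.single c 1) = F.aug c by
        rw [GrSyz.FreeRes.augLin, Fintype.linearCombination_apply_single, one_smul]]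
      exact hH0' c
    rw [← LinearMap.comp_apply, h1]
    have h2 : (fun y => F.d 0 y b) = F.dLin 0 (Pi.single b 1) := funext fun y => by simp
    rw [h2]
    exact F.exact_zero.ge ⟨_, rfl⟩)⟩
  have step : ∀ i (H : {H // P i H}), ∃ H' : {H' // P (i + 1) H'}, G.d i * H'.1 = H.1 * F.d i := by
    rintro i ⟨H, hH, hcol⟩
    obtain ⟨H', hH', he⟩ := exists_lift (GrSyz.stdGr k σ) (G.d_mem i)
      (homMat_mul (GrSyz.stdGr k σ) hH (F.d_mem i)) hcol
    refine ⟨⟨H', hH', fun b => (G.exact_succ i).le ?_⟩, he⟩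
    rw [LinearMap.mem_ker, col_mul, Matrix.mulVecLin_apply, Matrix.mulVec_mulVec, he, ← col_mul,
      Matrix.mul_assoc, d_mul_d, Matrix.mul_zero]
    rfl
  choose next hnext using step
  let seq : ∀ i, {H // P i H} := fun i => Nat.rec ⟨H0, base⟩ (fun j H => next j H) i
  exact ⟨fun i => (seq i).1, fun i => (seq i).2.1, hH0', fun i => hnext i (seq i)⟩

/-- A chain endomorphism over zero of a minimal resolution vanishes modulo the irrelevant ideal. -/
theorem entries_mem_of_null (F : GrSyz.FreeRes (GrSyz.stdGr k σ) ℳ) (hF : F.IsMinimal mm)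
    (E : ∀ i, Matrix (Fin (F.rk i)) (Fin (F.rk i)) (MvPolynomial σ k))
    (hE : ∀ i, HomMat (GrSyz.stdGr k σ) (F.deg i) (F.deg i) (E i))
    (h0 : ∀ b, F.augLin (fun a => E 0 a b) = 0) (hd : ∀ i, F.d i * E (i + 1) = E i * F.d i)
    (i : ℕ) : ∀ a b, E i a b ∈ (mm : Ideal (MvPolynomial σ k)) := by
  classical
  have key : ∀ i, ∃ W : Matrix (Fin (F.rk i)) (Fin (F.rk i)) (MvPolynomial σ k),
      HomMat (GrSyz.stdGr k σ) (F.deg i) (F.deg i) W ∧ W * F.d i = E i * F.d i ∧
      (∀ a b, E i a b - W a b ∈ (mm : Ideal (MvPolynomial σ k))) ∧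
      ∀ b, (fun a => W a b) ∈ LinearMap.range (F.dLin i) := by
    intro i
    induction i with
    | zero =>
      exact ⟨E 0, hE 0, rfl, fun a b => by rw [sub_self]; exact zero_mem _,
        fun b => F.exact_zero.le (LinearMap.mem_ker.2 (h0 b))⟩
    | succ i ih =>
      obtain ⟨W, hW, hWd, -, hcol⟩ := ih
      obtain ⟨h, hh, he⟩ := exists_lift (GrSyz.stdGr k σ) (F.d_mem i) hW hcol
      refine ⟨E (i + 1) - h * F.d i, homMat_sub (GrSyz.stdGr k σ) (hE _) (homMat_mul (GrSyz.stdGr k σ) hh (F.d_mem i)),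
        ?_, fun a b => ?_, fun b => (F.exact_succ i).le ?_⟩
      · rw [Matrix.sub_mul, Matrix.mul_assoc, d_mul_d, Matrix.mul_zero, sub_zero]
      · rw [Matrix.sub_apply, sub_sub_cancel, Matrix.mul_apply]
        exact Ideal.sum_mem _ fun c _ => Ideal.mul_mem_left _ _ (hF i c b)
      · rw [LinearMap.mem_ker, Matrix.mulVecLin_apply, ← col_mul, Matrix.mul_sub, ← Matrix.mul_assoc, he, hd i, hWd,
          sub_self]
        rfl
  obtain ⟨W, -, -, hmem, hcol⟩ := key i
  intro a b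
  obtain ⟨w, hw⟩ := hcol b
  have hWm : W a b ∈ (mm : Ideal (MvPolynomial σ k)) := by
    rw [← show (F.d i).mulVec w a = W a b from congrFun hw a]
    simp only [Matrix.mulVec, dotProduct]
    exact Ideal.sum_mem _ fun c _ => Ideal.mul_mem_right _ _ (hF i a c)
  simpa using add_mem (hmem a b) hWm

/-- The reduction of the composite of two comparisons is the identity. -/
theorem comparison_inverse (F G : GrSyz.FreeRes (GrSyz.stdGr k σ) ℳ) (hF : F.IsMinimal mm)
    (Φ : ∀ i, Matrix (Fin (G.rk i)) (Fin (F.rk i)) (MvPolynomial σ k))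
    (hΦ : ∀ i, HomMat (GrSyz.stdGr k σ) (G.deg i) (F.deg i) (Φ i))
    (hΦ0 : ∀ b, G.augLin (fun a => Φ 0 a b) = F.aug b) (hΦd : ∀ i, G.d i * Φ (i + 1) = Φ i * F.d i)
    (Ψ : ∀ i, Matrix (Fin (F.rk i)) (Fin (G.rk i)) (MvPolynomial σ k))
    (hΨ : ∀ i, HomMat (GrSyz.stdGr k σ) (F.deg i) (G.deg i) (Ψ i))
    (hΨ0 : ∀ b, F.augLin (fun a => Ψ 0 a b) = G.aug b) (hΨd : ∀ i, F.d i * Ψ (i + 1) = Ψ i * G.d i) (i : ℕ) :
    (Ψ i).map constantCoeff * (Φ i).map constantCoeff = 1 := by
  classical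
  have h := entries_mem_of_null F hF (fun i => Ψ i * Φ i - 1)
    (fun i => homMat_sub (GrSyz.stdGr k σ) (homMat_mul (GrSyz.stdGr k σ) (hΨ i) (hΦ i)) (homMat_one (GrSyz.stdGr k σ) _))
    (fun b => ?_) (fun i => ?_) i
  · have hmap : (Ψ i * Φ i).map constantCoeff = (1 : Matrix (Fin (F.rk i)) (Fin (F.rk i)) k) := by
      ext a b
      have := mem_mm.1 (h a b)
      rw [Matrix.sub_apply, map_sub, sub_eq_zero] at this
      rw [Matrix.map_apply, this, Matrix.one_apply, Matrix.one_apply, apply_ite constantCoeff, map_one, map_zero]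
    rwa [Matrix.map_mul] at hmap
  · have hcol : (fun a => (show Matrix (Fin (F.rk 0)) (Fin (F.rk 0)) (MvPolynomial σ k) from Ψ 0 * Φ 0 - 1) a b) = (Ψ 0).mulVecLin (fun c => Φ 0 c b) - Pi.single b 1 := by
      funext a
      simp [Matrix.mul_apply, Matrix.mulVec, dotProduct, Matrix.one_apply, Pi.single_apply]
    rw [hcol, map_sub]
    have h1 : F.augLin.comp (Ψ 0).mulVecLin = G.augLin := by
      refine LinearMap.pi_ext' fun c => LinearMap.ext_ring ?_
      simp only [LinearMap.comp_apply, LinearMap.single_apply, Matrix.mulVecLin_apply, Matrix.mulVec_single_one]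
      rw [show G.augLin (Pi.single c 1) = G.aug c by
        rw [GrSyz.FreeRes.augLin, Fintype.linearCombination_apply_single, one_smul]]
      exact hΨ0 c
    rw [← LinearMap.comp_apply, h1, hΦ0, GrSyz.FreeRes.augLin, Fintype.linearCombination_apply_single, one_smul,
      sub_self]
  · rw [Matrix.mul_sub, Matrix.sub_mul, Matrix.mul_one, Matrix.one_mul, ← Matrix.mul_assoc, hΨd,
      Matrix.mul_assoc, hΦd, Matrix.mul_assoc]

theorem map_eq_zero_of_deg_ne {ι κ : Type} {degT : ι → ℤ} {degS : κ → ℤ}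
    {A : Matrix ι κ (MvPolynomial σ k)} (hA : HomMat (GrSyz.stdGr k σ) degT degS A) {a : ι} {b : κ}
    (h : degS b ≠ degT a) : A.map constantCoeff a b = 0 :=
  constantCoeff_of_mem_ne (hA a b) (sub_ne_zero.2 h)

/-- The graded Betti numbers of two minimal resolutions agree. -/
theorem betti_eq (F G : GrSyz.FreeRes (GrSyz.stdGr k σ) ℳ) (hF : F.IsMinimal mm) (hG : G.IsMinimal mm)
    (i : ℕ) (j : ℤ) : F.betti i j = G.betti i j := by
  classical
  obtain ⟨Φ, hΦ, hΦ0, hΦd⟩ := exists_comparison F G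
  obtain ⟨Ψ, hΨ, hΨ0, hΨd⟩ := exists_comparison G F
  have h1 := comparison_inverse F G hF Φ hΦ hΦ0 hΦd Ψ hΨ hΨ0 hΨd i
  have h2 := comparison_inverse G F hG Ψ hΨ hΨ0 hΨd Φ hΦ hΦ0 hΦd i
  let s : Fin (F.rk i) → Prop := fun b => F.deg i b = j
  let t : Fin (G.rk i) → Prop := fun a => G.deg i a = j
  let A : Matrix {a // t a} {b // s b} k := ((Φ i).map constantCoeff).submatrix Subtype.val Subtype.val
  let B : Matrix {b // s b} {a // t a} k := ((Ψ i).map constantCoeff).submatrix Subtype.val Subtype.val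
  have hBA : B * A = 1 := by
    ext b b'
    have h := congrFun (congrFun h1 b.1) b'.1
    rw [Matrix.mul_apply] at h
    rw [Matrix.mul_apply, Matrix.one_apply]
    rw [Matrix.one_apply, ← Finset.sum_subset (Finset.subset_univ (Finset.univ.filter t)) (fun a _ ha => by
      rw [map_eq_zero_of_deg_ne (hΨ i) (a := b.1) (b := a) (fun e => ha (Finset.mem_filter.2
        ⟨Finset.mem_univ _, e.trans b.2⟩)), zero_mul]),
      Finset.sum_subtype (Finset.univ.filter t) (fun a => by simp) (p := t)] at h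
    exact h.trans (if_congr (Subtype.ext_iff.symm) rfl rfl)
  have hAB : A * B = 1 := by
    ext a a'
    have h := congrFun (congrFun h2 a.1) a'.1
    rw [Matrix.mul_apply] at h
    rw [Matrix.mul_apply, Matrix.one_apply]
    rw [Matrix.one_apply, ← Finset.sum_subset (Finset.subset_univ (Finset.univ.filter s)) (fun b _ hb => by
      rw [map_eq_zero_of_deg_ne (hΦ i) (a := a.1) (b := b) (fun e => hb (Finset.mem_filter.2
        ⟨Finset.mem_univ _, e.trans a.2⟩)), zero_mul]),
      Finset.sum_subtype (Finset.univ.filter s) (fun b => by simp) (p := s)] at h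
    exact h.trans (if_congr (Subtype.ext_iff.symm) rfl rfl)
  have hcard := (Matrix.toLin'OfInv hAB hBA).finrank_eq
  rw [Module.finrank_fintype_fun_eq_card, Module.finrank_fintype_fun_eq_card, Fintype.card_subtype,
    Fintype.card_subtype] at hcard
  unfold GrSyz.FreeRes.betti
  first
    | exact hcard
    | exact hcard.symm

/-- Generation bounds do not depend on the minimal resolution. -/
theorem isGenLE_iff (F G : GrSyz.FreeRes (GrSyz.stdGr k σ) ℳ) (hF : F.IsMinimal mm) (hG : G.IsMinimal mm)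
    (r : ℤ) : F.IsGenLE r ↔ G.IsGenLE r := by
  have key : ∀ F G : GrSyz.FreeRes (GrSyz.stdGr k σ) ℳ, F.IsMinimal mm → G.IsMinimal mm → F.IsGenLE r → G.IsGenLE r := by
    intro F G hF hG h i b
    have hb : G.betti i (G.deg i b) ≠ 0 :=
      Finset.card_ne_zero.2 ⟨b, Finset.mem_filter.2 ⟨Finset.mem_univ _, rfl⟩⟩
    rw [← betti_eq F G hF hG] at hb
    obtain ⟨c, hc⟩ := Finset.card_ne_zero.1 hb
    rw [← (Finset.mem_filter.1 hc).2]
    exact h i c
  exact ⟨key F G hF hG, key G F hG hF⟩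

/-- The regularity is read off any minimal resolution. -/
theorem reg_eq_iSup (F : GrSyz.FreeRes (GrSyz.stdGr k σ) ℳ) (hF : F.IsMinimal mm) :
    GrSyz.reg (GrSyz.stdGr k σ) ℳ mm =
      ⨆ i : ℕ, WithBot.map (fun t : ℤ => ((t - (i : ℤ) : ℤ) : WithTop ℤ)) (F.maxGenDeg i) := by
  set S := ⨆ i : ℕ, WithBot.map (fun t : ℤ => ((t - (i : ℤ) : ℤ) : WithTop ℤ)) (F.maxGenDeg i)
  have hS : ∀ r : ℤ, F.IsGenLE r ↔ S ≤ ((r : WithTop ℤ) : WithBot (WithTop ℤ)) := by
    intro r
    rw [iSup_le_iff]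
    refine forall_congr' fun i => ?_
    have h1 : (∀ b, F.deg i b ≤ r + i) ↔ F.maxGenDeg i ≤ ((r + i : ℤ) : WithBot ℤ) := by
      simp only [GrSyz.FreeRes.maxGenDeg, Finset.sup_le_iff, Finset.mem_univ, true_implies]
      exact forall_congr' fun b => WithBot.coe_le_coe.symm
    rw [h1]
    cases F.maxGenDeg i with
    | bot => simp
    | coe t =>
      rw [WithBot.map_coe, WithBot.coe_le_coe, WithBot.coe_le_coe, WithTop.coe_le_coe]
      omega
  have hreg : GrSyz.reg (GrSyz.stdGr k σ) ℳ mm =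
      ⨅ (r : ℤ) (_ : S ≤ ((r : WithTop ℤ) : WithBot (WithTop ℤ))), ((r : WithTop ℤ) : WithBot (WithTop ℤ)) :=
    iInf_congr fun r => iInf_congr_Prop
      ⟨fun ⟨G, hG, hr⟩ => (hS r).1 ((isGenLE_iff G F hG hF r).1 hr), fun h => ⟨F, hF, (hS r).2 h⟩⟩ fun _ => rfl
  rw [hreg]
  refine le_antisymm ?_ (le_iInf₂ fun r hr => hr)
  clear_value S
  induction S using WithBot.recBotCoe with
  | bot =>
    refine le_of_eq (iInf_eq_bot.2 fun b hb => ?_)
    induction b using WithBot.recBotCoe with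
    | bot => exact absurd hb (lt_irrefl _)
    | coe b =>
      induction b using WithTop.recTopCoe with
      | top => exact ⟨0, iInf_lt_iff.2 ⟨bot_le, WithBot.coe_lt_coe.2 (WithTop.coe_lt_top 0)⟩⟩
      | coe z => exact ⟨z - 1, iInf_lt_iff.2 ⟨bot_le, WithBot.coe_lt_coe.2 (WithTop.coe_lt_coe.2 (by omega))⟩⟩
  | coe S =>
    induction S using WithTop.recTopCoe with
    | top => exact le_top
    | coe z => exact iInf₂_le (f := fun (r : ℤ) (_ : ((z : WithTop ℤ) : WithBot (WithTop ℤ)) ≤ ((r : WithTop ℤ) : WithBot (WithTop ℤ))) =>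
        ((r : WithTop ℤ) : WithBot (WithTop ℤ))) z le_rfl

end Groth.Agent.GrSyzLib
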